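import Groth.Agent.L27.Supp.LocEq
import Groth.Agent.L27.EtSite.Points
import Groth.Prelude.Def_EtShriek2
import Mathlib.AlgebraicGeometry.PullbackCarrier
import Mathlib.CategoryTheory.Sites.SheafOfTypes
import Mathlib.AlgebraicGeometry.Morphisms.UniversallyOpen

/-! # Restriction of sections with supports -/

universe u

open CategoryTheory CategoryTheory.Limits AlgebraicGeometry Opposite

set_option backward.isDefEq.respectTransparency.types false
set_option linter.style.haveILetI false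

namespace Groth.L27.Supp

variable {X : Scheme.{u}}

/-- Fibre products in the small etale site, with points. -/
theorem exists_pb {A B C : X.Etale} (f : A ⟶ C) (g : B ⟶ C) :
    ∃ (P : X.Etale) (a : P ⟶ A) (b : P ⟶ B), a ≫ f = b ≫ g ∧
      ∀ (x : A.left) (y : B.left), f.left x = g.left y → ∃ p : P.left, a.left p = x ∧ b.left p = y := by
  haveI : AlgebraicGeometry.Etale A.hom := A.prop
  haveI : AlgebraicGeometry.Etale g.left := EtSite.etale_left g
  haveI : AlgebraicGeometry.Etale (pullback.fst f.left g.left) := inferInstance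
  refine ⟨Scheme.Etale.mk (pullback.fst f.left g.left ≫ A.hom),
    MorphismProperty.Over.homMk (pullback.fst f.left g.left) rfl,
    MorphismProperty.Over.homMk (pullback.snd f.left g.left) ?_,
    MorphismProperty.Over.Hom.ext pullback.condition,
    fun x y h => Scheme.exists_preimage_of_isPullback (IsPullback.of_hasPullback f.left g.left) x y h⟩
  show pullback.snd f.left g.left ≫ B.hom = pullback.fst f.left g.left ≫ A.hom
  rw [← MorphismProperty.Over.w f, ← MorphismProperty.Over.w g, pullback.condition_assoc]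

variable (F : EtCoh.Ab X)

/-- Killed on some etale neighbourhood. -/
def ZeroAt {U : X.Etale} (s : F.obj.obj (op U)) (u : U.left) : Prop :=
  ∃ (W : X.Etale) (g : W ⟶ U) (w : W.left), g.left w = u ∧ F.obj.map g.op s = 0

theorem map_comp {A B C : X.Etale} (i : A ⟶ B) (j : B ⟶ C) (x : F.obj.obj (op C)) :
    F.obj.map i.op (F.obj.map j.op x) = F.obj.map (i ≫ j).op x :=
  (Functor.map_comp_apply F.obj j.op i.op x).symm

theorem mem_sectSupp {U : X.Etale} (s : F.obj.obj (op U)) (u : U.left) :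
    u ∈ EtShriek.sectSupp F U s ↔ ¬ ZeroAt F s u :=
  ⟨fun h ⟨W, g, w, hw, h0⟩ => h W g ⟨w, hw⟩ h0, fun h W g ⟨w, hw⟩ h0 => h ⟨W, g, w, hw, h0⟩⟩

theorem zeroAt_of_subset {U : X.Etale} {s : F.obj.obj (op U)} {Z : Set U.left}
    (h : EtShriek.sectSupp F U s ⊆ Z) {u : U.left} (hu : u ∉ Z) : ZeroAt F s u :=
  not_not.1 fun h' => hu (h ((mem_sectSupp F s u).2 h'))

theorem ZeroAt.map {U U' : X.Etale} (φ : U' ⟶ U) {s : F.obj.obj (op U)} {u : U'.left}
    (h : ZeroAt F s (φ.left u)) : ZeroAt F (F.obj.map φ.op s) u := by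
  obtain ⟨W, g, w, hw, h0⟩ := h
  obtain ⟨P, a, b, hab, hP⟩ := exists_pb φ g
  obtain ⟨p, hp, -⟩ := hP u w hw.symm
  exact ⟨P, a, p, hp, by rw [map_comp, hab, ← map_comp, h0, map_zero]⟩

theorem eq_of_locally {U : X.Etale} (s t : F.obj.obj (op U))
    (h : ∀ u : U.left, ∃ (W : X.Etale) (g : W ⟶ U) (w : W.left), g.left w = u ∧
      F.obj.map g.op s = F.obj.map g.op t) : s = t := by
  let R : Sieve U :=
    { arrows := fun W g => F.obj.map g.op s = F.obj.map g.op t
      downward_closed := fun {Y Z g} hg k => by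
        show F.obj.map (k ≫ g).op s = F.obj.map (k ≫ g).op t
        rw [← map_comp, ← map_comp, hg] }
  refine Sheaf.isSeparated F U R ((EtSite.mem_topology_iff _).2 fun u => ?_) s t fun W g hg => hg
  obtain ⟨W, g, w, hw, he⟩ := h u
  exact ⟨W, g, w, he, hw⟩

theorem eq_of_zeroAt {U : X.Etale} {s t : F.obj.obj (op U)} {u : U.left}
    (hs : ZeroAt F s u) (ht : ZeroAt F t u) :
    ∃ (W : X.Etale) (g : W ⟶ U) (w : W.left), g.left w = u ∧ F.obj.map g.op s = F.obj.map g.op t := by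
  obtain ⟨W, g, w, rfl, h0⟩ := hs
  obtain ⟨W', g', w', hw', h0'⟩ := ZeroAt.map F g ht
  refine ⟨W', g' ≫ g, w', (Scheme.Hom.comp_apply _ _ _).trans (congrArg g.left hw'), ?_⟩
  rw [← map_comp, ← map_comp, h0, map_zero, h0']

variable {U U' : X.Etale} (φ : U' ⟶ U) (Z : Set U.left)

theorem mapsTo {s : F.obj.obj (op U)} (hs : EtShriek.sectSupp F U s ⊆ Z) :
    EtShriek.sectSupp F U' (F.obj.map φ.op s) ⊆ φ.left ⁻¹' Z := fun u hu => by
  by_contra hc
  exact (mem_sectSupp F _ u).1 hu (ZeroAt.map F φ (zeroAt_of_subset F hs hc))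

theorem injOn (hsurj : Z ⊆ Set.range φ.left) :
    Set.InjOn (F.obj.map φ.op) {s | EtShriek.sectSupp F U s ⊆ Z} := fun s hs t ht h => by
  refine eq_of_locally F s t fun u => ?_
  by_cases hu : u ∈ Z
  · obtain ⟨v, hv⟩ := hsurj hu
    exact ⟨U', φ, v, hv, h⟩
  · exact eq_of_zeroAt F (zeroAt_of_subset F hs hu) (zeroAt_of_subset F ht hu)

theorem compat (hbij : Set.InjOn φ.left (φ.left ⁻¹' Z))
    (hres : ∀ x ∈ φ.left ⁻¹' Z, Function.Bijective (φ.left.residueFieldMap x))
    {s' : F.obj.obj (op U')} (hs : EtShriek.sectSupp F U' s' ⊆ φ.left ⁻¹' Z)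
    {Q : X.Etale} (a b : Q ⟶ U') (e : a ≫ φ = b ≫ φ) :
    F.obj.map a.op s' = F.obj.map b.op s' := by
  refine eq_of_locally F _ _ fun q => ?_
  have e' : a.left ≫ φ.left = b.left ≫ φ.left := congrArg (fun m => m.left) e
  have hq : φ.left (a.left q) = φ.left (b.left q) :=
    (Scheme.Hom.comp_apply _ _ _).symm.trans ((congrArg (fun m : Q.left ⟶ U.left => m q) e').trans
      (Scheme.Hom.comp_apply _ _ _))
  by_cases hz : φ.left (a.left q) ∈ Z
  · have hab : a.left q = b.left q := hbij hz (show φ.left (b.left q) ∈ Z from hq ▸ hz) hq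
    haveI : AlgebraicGeometry.Etale φ.left := EtSite.etale_left φ
    obtain ⟨O, hO, hOe⟩ := locally_eq φ.left a.left b.left e' q hab (hres _ hz)
    haveI : AlgebraicGeometry.Etale Q.hom := Q.prop
    let ι : Scheme.Etale.mk (O.ι ≫ Q.hom) ⟶ Q := MorphismProperty.Over.homMk O.ι rfl
    refine ⟨_, ι, ⟨q, hO⟩, rfl, ?_⟩
    rw [map_comp, map_comp, show ι ≫ a = ι ≫ b from MorphismProperty.Over.Hom.ext hOe]
  · exact eq_of_zeroAt F (ZeroAt.map F a (zeroAt_of_subset F hs hz))
      (ZeroAt.map F b (zeroAt_of_subset F hs (show φ.left (b.left q) ∉ Z from hq ▸ hz)))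

theorem surjOn (hZ : IsClosed Z) (hbij : Set.InjOn φ.left (φ.left ⁻¹' Z)) (hsurj : Z ⊆ Set.range φ.left)
    (hres : ∀ x ∈ φ.left ⁻¹' Z, Function.Bijective (φ.left.residueFieldMap x)) :
    Set.SurjOn (F.obj.map φ.op) {s | EtShriek.sectSupp F U s ⊆ Z}
      {s' | EtShriek.sectSupp F U' s' ⊆ φ.left ⁻¹' Z} := by
  intro s' hs
  let O : U.left.Opens := ⟨Zᶜ, hZ.isOpen_compl⟩
  haveI : AlgebraicGeometry.Etale U.hom := U.prop
  let V : X.Etale := Scheme.Etale.mk (O.ι ≫ U.hom)
  let ι : V ⟶ U := MorphismProperty.Over.homMk O.ι rfl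
  let Y : Bool → X.Etale := Bool.rec V U'
  let π : ∀ i, Y i ⟶ U := Bool.rec ι φ
  let fam : ∀ i, F.obj.obj (op (Y i)) := fun i =>
    Bool.rec (motive := fun i => F.obj.obj (op (Y i))) (0 : F.obj.obj (op V)) s' i
  let R : Presieve U := Presieve.ofArrows Y π
  have hR : Sieve.generate R ∈ X.smallEtaleTopology U := (EtSite.mem_topology_iff _).2 fun u => by
    by_cases hu : u ∈ Z
    · obtain ⟨v, hv⟩ := hsurj hu
      exact ⟨U', φ, v, Sieve.le_generate R _ _ (Presieve.ofArrows.mk true), hv⟩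
    · exact ⟨V, ι, ⟨u, hu⟩, Sieve.le_generate R _ _ (Presieve.ofArrows.mk false), rfl⟩
  have hsheaf := ((isSheaf_iff_isSheaf_of_type _ _).1
    ((Presheaf.isSheaf_iff_isSheaf_forget X.smallEtaleTopology F.obj (forget AddCommGrpCat.{u + 1})).1 F.property))
    _ hR
  rw [← Presieve.isSheafFor_iff_generate, Presieve.isSheafFor_arrows_iff] at hsheaf
  have hzero : ∀ {Q : X.Etale} (a : Q ⟶ U') (b : Q ⟶ V), a ≫ φ = b ≫ ι →
      F.obj.map a.op s' = 0 := fun {Q} a b e => by
    refine eq_of_locally F _ _ fun q => ?_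
    refine eq_of_zeroAt F (ZeroAt.map F a (zeroAt_of_subset F hs fun h => ?_)) ⟨Q, 𝟙 Q, q, rfl, map_zero _⟩
    have he : φ.left (a.left q) = ι.left (b.left q) := (Scheme.Hom.comp_apply _ _ _).symm.trans
      ((congrArg (fun m : Q ⟶ U => m.left q) e).trans (Scheme.Hom.comp_apply _ _ _))
    have h' : ι.left (b.left q) ∈ Z := he ▸ (show φ.left (a.left q) ∈ Z from h)
    exact (b.left q).2 h' 
  obtain ⟨y, hy, -⟩ := hsheaf fam fun i j Q a b e => by
    show F.obj.map a.op (fam i) = F.obj.map b.op (fam j)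
    cases i <;> cases j
    · exact (map_zero (F.obj.map a.op).hom).trans (map_zero (F.obj.map b.op).hom).symm
    · exact (map_zero (F.obj.map a.op).hom).trans (hzero b a e.symm).symm
    · exact (hzero a b e).trans (map_zero (F.obj.map b.op).hom).symm
    · exact compat F φ Z hbij hres hs a b e
  refine ⟨y, fun u hu => ?_, hy true⟩
  by_contra hc
  exact (mem_sectSupp F y u).1 hu ⟨V, ι, ⟨u, hc⟩, rfl, hy false⟩

end Groth.L27.Supp
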