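import Groth.Prelude.Def_EtBase
import Mathlib.AlgebraicGeometry.ResidueField
import Mathlib.AlgebraicGeometry.Morphisms.FormallyUnramified
import Mathlib.AlgebraicGeometry.Morphisms.Preimmersion

/-! # Morphisms to an etale scheme agreeing near a point -/

universe u

open CategoryTheory CategoryTheory.Limits AlgebraicGeometry

set_option backward.isDefEq.respectTransparency.types false

namespace Groth.L27.Supp

variable {A B : Scheme.{u}} (φ : A ⟶ B)

theorem exists_factor {K : Type u} [Field K] (q : Spec (CommRingCat.of K) ⟶ A) (a : A)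
    (h : q default = a) :
    ∃ e : A.residueField a ⟶ CommRingCat.of K, Spec.map e ≫ A.fromSpecResidueField a = q := by
  obtain ⟨⟨p, e⟩, rfl⟩ := (Scheme.SpecToEquivOfField K A).symm.surjective q
  obtain rfl : p = a := by simpa [Scheme.SpecToEquivOfField] using h
  exact ⟨e, rfl⟩

/-- Two field valued points with the same image agree when the residue extension is trivial. -/
theorem point_ext {K : Type u} [Field K] (q₁ q₂ : Spec (CommRingCat.of K) ⟶ A)
    (e : q₁ ≫ φ = q₂ ≫ φ) {a : A} (h₁ : q₁ default = a) (h₂ : q₂ default = a)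
    (hres : Function.Bijective (φ.residueFieldMap a)) : q₁ = q₂ := by
  obtain ⟨e₁, he₁⟩ := exists_factor q₁ a h₁
  obtain ⟨e₂, he₂⟩ := exists_factor q₂ a h₂
  haveI := (ConcreteCategory.isIso_iff_bijective (φ.residueFieldMap a)).2 hres
  have h : φ.residueFieldMap a ≫ e₁ = φ.residueFieldMap a ≫ e₂ := by
    apply Spec.map_injective
    rw [← cancel_mono (B.fromSpecResidueField _)]
    simp only [Spec.map_comp, Category.assoc, Scheme.Hom.SpecMap_residueFieldMap_fromSpecResidueField]
    rw [← Category.assoc, he₁, ← Category.assoc, he₂, e]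
  rw [← he₁, ← he₂, (cancel_epi _).1 h]

/-- Morphisms to an unramified scheme agreeing at a point with trivial residue extension agree nearby. -/
theorem locally_eq [FormallyUnramified φ] [LocallyOfFiniteType φ] {W : Scheme.{u}} (g h : W ⟶ A)
    (e : g ≫ φ = h ≫ φ) (w : W) (hw : g w = h w) (hres : Function.Bijective (φ.residueFieldMap (g w))) :
    ∃ O : W.Opens, w ∈ O ∧ O.ι ≫ g = O.ι ≫ h := by
  let L : W ⟶ pullback φ φ := pullback.lift g h e
  let Δ := pullback.diagonal φ
  refine ⟨L ⁻¹ᵁ Δ.opensRange, ?_, ?_⟩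
  · let r := W.fromSpecResidueField w
    have hr : r default = w := W.fromSpecResidueField_apply w _
    have h1 : (r ≫ g) default = g w := (Scheme.Hom.comp_apply _ _ _).trans (congrArg g hr)
    have hq : r ≫ g = r ≫ h := point_ext (K := W.residueField w) φ (r ≫ g) (r ≫ h)
      (by simp only [Category.assoc, e]) h1
      (((Scheme.Hom.comp_apply _ _ _).trans (congrArg h hr)).trans hw.symm) hres
    have hL : r ≫ L = (r ≫ g) ≫ Δ := by
      refine pullback.hom_ext ?_ ?_
      · exact (Category.assoc _ _ _).trans ((congrArg (r ≫ ·) (pullback.lift_fst _ _ _)).trans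
          (((Category.assoc _ _ _).trans (congrArg ((r ≫ g) ≫ ·) (pullback.diagonal_fst φ))).trans
            (Category.comp_id _)).symm)
      · exact (Category.assoc _ _ _).trans ((congrArg (r ≫ ·) (pullback.lift_snd _ _ _)).trans
          ((((Category.assoc _ _ _).trans (congrArg ((r ≫ g) ≫ ·) (pullback.diagonal_snd φ))).trans
            (Category.comp_id _)).trans hq).symm)
    refine ⟨(r ≫ g) default, ?_⟩
    refine (Scheme.Hom.comp_apply _ _ _).symm.trans ((congrArg (fun m : _ ⟶ pullback φ φ => m default) hL).symm.trans ?_)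
    exact (Scheme.Hom.comp_apply _ _ _).trans (congrArg L hr)
  · have hO : Set.range ((L ⁻¹ᵁ Δ.opensRange).ι ≫ L) ⊆ Set.range Δ := by
      rintro _ ⟨z, rfl⟩
      rw [Scheme.Hom.comp_apply]
      exact z.2
    have he := IsOpenImmersion.lift_fac Δ _ hO
    set m := IsOpenImmersion.lift Δ _ hO
    have e1 : m = (L ⁻¹ᵁ Δ.opensRange).ι ≫ g :=
      ((Category.comp_id m).symm.trans ((congrArg (m ≫ ·) (pullback.diagonal_fst φ)).symm.trans
        (Category.assoc _ _ _).symm)).trans ((congrArg (· ≫ pullback.fst φ φ) he).trans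
          ((Category.assoc _ _ _).trans (congrArg (_ ≫ ·) (pullback.lift_fst _ _ _))))
    have e2 : m = (L ⁻¹ᵁ Δ.opensRange).ι ≫ h :=
      ((Category.comp_id m).symm.trans ((congrArg (m ≫ ·) (pullback.diagonal_snd φ)).symm.trans
        (Category.assoc _ _ _).symm)).trans ((congrArg (· ≫ pullback.snd φ φ) he).trans
          ((Category.assoc _ _ _).trans (congrArg (_ ≫ ·) (pullback.lift_snd _ _ _))))
    exact e1.symm.trans e2

end Groth.L27.Supp
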